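import Mathlib
import Cfsg.Agent.Helper17.Fi22Ord.Simple
import Cfsg.Agent.Helper17.Fi22aTC.Perm
import Cfsg.Agent.Helper17.U62.Main

/-! The presented `Fi22` as a 3-transposition group: the generator `a` has centraliser
`H = ⟨a, c, …, i, (abcdeh)^5⟩` (of index 3510), its class has 3510 members, any two of which have
product of order at most 3, and every centraliser is a non-split double cover of `PSU₆(2)`. -/

set_option autoImplicit false
set_option linter.all false
set_option maxRecDepth 100000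

noncomputable section

namespace Cfsg.Agent.Helper17.Fi22Trans

open Cfsg.Spor Cfsg.Agent.Helper17.Fi22aTC

/-! ### the two numberings of the generators agree -/

theorem gen_eq (l : ℕ) : gen l = Fi22bTC.gen l := by
  rcases l with _ | _ | _ | _ | _ | _ | _ | _ | _ | l <;> rfl

theorem gG_eq (l : ℕ) : gG l = Fi22bTC.gG l := by
  unfold gG Fi22bTC.gG
  rw [gen_eq]

theorem prodw_eq (w : List ℕ) : prodw w = Fi22bTC.prodw w := by
  induction w with
  | nil => rfl
  | cons l w ih => rw [prodw, Fi22bTC.prodw, ih, gG_eq]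

theorem prodw_eq_one {w : List ℕ} (h : Fi22Ord.chkBase w = true) : prodw w = 1 := by
  rw [prodw_eq]; exact Fi22Ord.prodw_eq_one h

theorem prodw_append (u v : List ℕ) : prodw (u ++ v) = prodw v * prodw u := by
  rw [prodw_eq, prodw_eq, prodw_eq]; exact Fi22Ord.prodw_append u v

theorem prodw_reverse (u : List ℕ) : prodw u.reverse = (prodw u)⁻¹ := by
  rw [prodw_eq, prodw_eq]; exact Fi22Ord.prodw_reverse u

theorem prodw_replicate (k : ℕ) (u : List ℕ) :
    prodw (List.replicate k u).flatten = prodw u ^ k := by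
  rw [prodw_eq, prodw_eq]; exact Fi22Ord.prodw_replicate k u

theorem prodw_eq_of_chk {u v : List ℕ} (h : Fi22Ord.chkBase (u ++ v.reverse) = true) :
    prodw u = prodw v := by
  rw [prodw_eq, prodw_eq]; exact Fi22Ord.prodw_eq_of_chk h

/-! ### the action on the 3510 cosets -/

theorem phi_prodw (w : List ℕ) (h : ∀ l ∈ w, l < nl) : phi (prodw w) = permw w := by
  induction w with
  | nil => simp [prodw, permw]
  | cons l w ih =>
    rw [prodw, permw, map_mul, phi_gG (h l (List.mem_cons_self ..)),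
      ih (fun x hx => h x (List.mem_cons_of_mem _ hx))]

theorem phi_prodw_apply (w : List ℕ) (h : ∀ l ∈ w, l < nl) (i : ℕ) :
    phi (prodw w) i = evalw w i := by
  rw [phi_prodw w h, permw_apply]

theorem stab0 {g : G} : phi g 0 = 0 ↔ g ∈ Hs := by
  constructor
  · intro h
    have h1 : psiQ (g • n0) = psiQ n0 := by
      unfold psiQ
      rw [TCG.psi_smul]
      have h0 := psi_n0
      unfold psiQ at h0
      rw [h0, h]
    have h2 := psi_inj h1
    unfold n0 at h2
    rw [MulAction.Quotient.smul_mk, QuotientGroup.eq] at h2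
    simpa using Hs.inv_mem h2
  · intro h
    exact hH g h

theorem oid0 {i : ℕ} (hi : i < N) (h : oid i = 0) : i = 0 := by
  obtain ⟨g, hg, e⟩ := orb_reach 0 (odep i) i hi rfl h
  have e' : phi g 0 = i := e
  rw [hH g hg] at e'
  exact e'.symm

def chkOid : Bool := (List.range N).all fun i => decide (oid i < 3)

theorem chkOid_ok : chkOid = true := by decide +kernel

theorem oid_lt3 {i : ℕ} (hi : i < N) : oid i < 3 := by
  have h := chkOid_ok
  simp only [chkOid, List.all_eq_true, List.mem_range, decide_eq_true_eq] at h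
  exact h i hi

/-! ### the transposition -/

def wz : List ℕ := [0]

def zG : G := prodw wz

theorem zG_eq : zG = gG 0 := by simp [zG, wz, prodw]

theorem wz_lt : ∀ l ∈ wz, l < nl := by decide

theorem zG_sq : zG * zG = 1 := by
  rw [zG_eq]; exact gG_mul_self 0

theorem zG_inv : zG⁻¹ = zG := by
  rw [inv_eq_iff_mul_eq_one]; exact zG_sq

theorem zG_ne : zG ≠ 1 := by
  intro h
  have h1 : phi zG 1 = 1 := by rw [h, MonoidHom.map_one phi, Equiv.Perm.one_apply]
  rw [zG, phi_prodw_apply _ wz_lt] at h1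
  revert h1
  decide +kernel

theorem orderOf_zG : orderOf zG = 2 := by
  haveI : Fact (Nat.Prime 2) := ⟨Nat.prime_two⟩
  exact orderOf_eq_prime (by rw [pow_two]; exact zG_sq) zG_ne

/-- the words of the generators of the subgroup commute with `a`. -/
theorem zG_comm_sub {k : ℕ} (hk : k < nsub) : zG * prodw (subW k) = prodw (subW k) * zG := by
  have key : ∀ k : ℕ, Fi22Ord.chkBase ((subW k ++ wz) ++ (wz ++ subW k).reverse) = true →
      zG * prodw (subW k) = prodw (subW k) * zG := by
    intro k h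
    have h1 := prodw_eq_of_chk h
    rw [prodw_append, prodw_append] at h1
    exact h1
  unfold nsub at hk
  interval_cases k
  · exact key _ (by decide +kernel)
  · exact key _ (by decide +kernel)
  · exact key _ (by decide +kernel)
  · exact key _ (by decide +kernel)
  · exact key _ (by decide +kernel)
  · exact key _ (by decide +kernel)
  · exact key _ (by decide +kernel)
  · exact key _ (by decide +kernel)
  · exact key _ (by decide +kernel)

theorem mk_gen (l : ℕ) : PresentedGroup.mk Rels (FreeGroup.of (gen l)) = gG l := rfl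

theorem mk_sub : ∀ s ∈ subS, ∃ k, k < nsub ∧ PresentedGroup.mk Rels s = prodw (subW k) := by
  apply subgen_cases
  · exact ⟨0, by decide, by rw [show subW 0 = [0] from rfl, prodw, prodw, one_mul]; exact mk_gen 0⟩
  · exact ⟨1, by decide, by rw [show subW 1 = [2] from rfl, prodw, prodw, one_mul]; exact mk_gen 2⟩
  · exact ⟨2, by decide, by rw [show subW 2 = [3] from rfl, prodw, prodw, one_mul]; exact mk_gen 3⟩
  · exact ⟨3, by decide, by rw [show subW 3 = [4] from rfl, prodw, prodw, one_mul]; exact mk_gen 4⟩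
  · exact ⟨4, by decide, by rw [show subW 4 = [5] from rfl, prodw, prodw, one_mul]; exact mk_gen 5⟩
  · exact ⟨5, by decide, by rw [show subW 5 = [6] from rfl, prodw, prodw, one_mul]; exact mk_gen 6⟩
  · exact ⟨6, by decide, by rw [show subW 6 = [7] from rfl, prodw, prodw, one_mul]; exact mk_gen 7⟩
  · exact ⟨7, by decide, by rw [show subW 7 = [8] from rfl, prodw, prodw, one_mul]; exact mk_gen 8⟩
  · refine ⟨8, by decide, ?_⟩
    have e : subW 8 = (List.replicate 5 [7, 4, 3, 2, 1, 0]).flatten := rfl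
    rw [e, prodw_replicate, map_pow]
    congr 1

theorem Hs_le_cent : Hs ≤ Subgroup.centralizer {zG} := by
  rw [Hs_eq, MonoidHom.map_closure, Subgroup.closure_le]
  rintro _ ⟨s, hs, rfl⟩
  rw [SetLike.mem_coe, Subgroup.mem_centralizer_iff]
  intro h hh
  rw [Set.mem_singleton_iff] at hh
  subst hh
  obtain ⟨k, hk, e⟩ := mk_sub s hs
  show zG * PresentedGroup.mk Rels s = PresentedGroup.mk Rels s * zG
  rw [e]
  exact zG_comm_sub hk

/-! ### double cosets -/

def w1 : List ℕ := [1]
def w2 : List ℕ := [1, 0, 2, 1]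

/-- an element whose coset lies in the same orbit as that of `prodw w` is in the double coset. -/
theorem decomp (w : List ℕ) (hw : ∀ l ∈ w, l < nl) (g : G)
    (hg : ∃ h ∈ Hs, phi h (evalw w 0) = phi g 0) :
    ∃ h ∈ Hs, ∃ h' ∈ Hs, g = h * prodw w * h' := by
  obtain ⟨h, hh, e⟩ := hg
  have h1 : phi (h * prodw w) 0 = phi g 0 := by
    rw [map_mul, Equiv.Perm.mul_apply, phi_prodw_apply _ hw]; exact e
  have h2 : (h * prodw w)⁻¹ * g ∈ Hs := by
    rw [← stab0, map_mul, map_inv, Equiv.Perm.mul_apply, ← h1]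
    simp
  exact ⟨h, hh, _, h2, by group⟩

theorem cases3 (g : G) : g ∈ Hs ∨ (∃ h ∈ Hs, ∃ h' ∈ Hs, g = h * prodw w1 * h') ∨
    (∃ h ∈ Hs, ∃ h' ∈ Hs, g = h * prodw w2 * h') := by
  have hiN : phi g 0 < N := phi_lt g N_pos
  have hcase : oid (phi g 0) = 0 ∨ oid (phi g 0) = 1 ∨ oid (phi g 0) = 2 := by
    have := oid_lt3 hiN
    omega
  rcases hcase with h0 | h1 | h2
  · left
    exact stab0.mp (oid0 hiN h0)
  · right; left
    apply decomp w1 (by decide) g
    obtain ⟨h, hh, e⟩ := orb_reach 1 (odep _) (phi g 0) hiN rfl h1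
    refine ⟨h, hh, ?_⟩
    have e0 : evalw w1 0 = oroot 1 := by decide +kernel
    rw [e0]; exact e
  · right; right
    apply decomp w2 (by decide) g
    obtain ⟨h, hh, e⟩ := orb_reach 2 (odep _) (phi g 0) hiN rfl h2
    refine ⟨h, hh, ?_⟩
    have e0 : evalw w2 0 = oroot 2 := by decide +kernel
    rw [e0]; exact e

theorem comm_of_mem {h : G} (hh : h ∈ Hs) : zG * h = h * zG :=
  Subgroup.mem_centralizer_iff.mp (Hs_le_cent hh) zG rfl

theorem conj_of_mem {h : G} (hh : h ∈ Hs) : h * zG * h⁻¹ = zG := by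
  rw [← comm_of_mem hh]; group

/-- conjugating `a` by an element of the double coset of `x`. -/
theorem conj_decomp {g h h' x : G} (hh : h ∈ Hs) (hh' : h' ∈ Hs) (hg : g = h * x * h') :
    g * zG * g⁻¹ = h * (x * zG * x⁻¹) * h⁻¹ := by
  have e1 := conj_of_mem hh'
  calc g * zG * g⁻¹ = h * x * (h' * zG * h'⁻¹) * x⁻¹ * h⁻¹ := by rw [hg]; group
    _ = h * (x * zG * x⁻¹) * h⁻¹ := by rw [e1]; group

theorem ne_of_word (w : List ℕ) (hw : ∀ l ∈ w, l < nl) (p : ℕ)
    (h : evalw (w.reverse ++ wz ++ w) p ≠ evalw wz p) : prodw w * zG * (prodw w)⁻¹ ≠ zG := by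
  intro e
  apply h
  have hl : ∀ l ∈ w.reverse ++ wz ++ w, l < nl := by
    intro l hl
    simp only [List.mem_append, List.mem_reverse] at hl
    rcases hl with (hl | hl) | hl
    · exact hw l hl
    · exact wz_lt l hl
    · exact hw l hl
  rw [← phi_prodw_apply _ hl, ← phi_prodw_apply _ wz_lt, prodw_append, prodw_append,
    prodw_reverse, ← mul_assoc]
  exact congrArg (fun g => phi g p) e

theorem ne1 : prodw w1 * zG * (prodw w1)⁻¹ ≠ zG :=
  ne_of_word w1 (by decide) 0 (by decide +kernel)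

theorem ne2 : prodw w2 * zG * (prodw w2)⁻¹ ≠ zG :=
  ne_of_word w2 (by decide) 1 (by decide +kernel)

theorem cent_eq : Subgroup.centralizer {zG} = Hs := by
  apply le_antisymm _ Hs_le_cent
  intro g hg
  have hc : g * zG * g⁻¹ = zG := by
    have := Subgroup.mem_centralizer_iff.mp hg zG rfl
    rw [← this]; group
  rcases cases3 g with h | ⟨h, hh, h', hh', e⟩ | ⟨h, hh, h', hh', e⟩
  · exact h
  · exfalso
    rw [conj_decomp hh hh' e] at hc
    apply ne1
    have := conj_of_mem (Hs.inv_mem hh)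
    calc prodw w1 * zG * (prodw w1)⁻¹
        = h⁻¹ * (h * (prodw w1 * zG * (prodw w1)⁻¹) * h⁻¹) * h⁻¹⁻¹ := by group
      _ = zG := by rw [hc]; exact this
  · exfalso
    rw [conj_decomp hh hh' e] at hc
    apply ne2
    have := conj_of_mem (Hs.inv_mem hh)
    calc prodw w2 * zG * (prodw w2)⁻¹
        = h⁻¹ * (h * (prodw w2 * zG * (prodw w2)⁻¹) * h⁻¹) * h⁻¹⁻¹ := by group
      _ = zG := by rw [hc]; exact this

/-- the class of 3-transpositions. -/
def D : Set G := conjugatesOf zG

theorem card_D : Nat.card D = 3510 := by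
  rw [D, DoubleCover.card_conjugatesOf, cent_eq, Subgroup.index_eq_card]
  exact card_Q

theorem isSimpleG : IsSimpleGroup G := Fi22Ord.isSimple

theorem closure_D : Subgroup.closure D = ⊤ := by
  haveI := isSimpleG
  exact DoubleCover.closure_conjugatesOf_eq_top zG_ne

theorem mem_D {d : G} : d ∈ D ↔ ∃ c : G, c * zG * c⁻¹ = d := by
  show IsConj zG d ↔ _
  rw [isConj_iff]

theorem orderOf_D {d : G} (hd : d ∈ D) : orderOf d = 2 := by
  obtain ⟨c, rfl⟩ := mem_D.mp hd
  have : c * zG * c⁻¹ = MulAut.conj c zG := by simp [MulAut.conj_apply]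
  rw [this, MulEquiv.orderOf_eq]
  exact orderOf_zG

/-! ### products of two transpositions -/

theorem pair_rel (w : List ℕ) (k : ℕ)
    (h : Fi22Ord.chkBase (List.replicate k (w.reverse ++ wz ++ w ++ wz)).flatten = true) :
    (zG * (prodw w * zG * (prodw w)⁻¹)) ^ k = 1 := by
  have h1 := prodw_eq_one h
  rw [prodw_replicate, prodw_append, prodw_append, prodw_append, prodw_reverse] at h1
  rw [← h1, zG]
  simp only [mul_assoc]

theorem pair_zG (g : G) : (zG * (g * zG * g⁻¹)) ^ 2 = 1 ∨ (zG * (g * zG * g⁻¹)) ^ 3 = 1 := by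
  have key : ∀ (x : G) (k : ℕ), (zG * (x * zG * x⁻¹)) ^ k = 1 → ∀ h ∈ Hs, ∀ h' ∈ Hs,
      g = h * x * h' → (zG * (g * zG * g⁻¹)) ^ k = 1 := by
    intro x k hk h hh h' hh' e
    have e2 : zG * (g * zG * g⁻¹) = h * (zG * (x * zG * x⁻¹)) * h⁻¹ := by
      rw [conj_decomp hh hh' e]
      calc zG * (h * (x * zG * x⁻¹) * h⁻¹) = (zG * h) * (x * zG * x⁻¹) * h⁻¹ := by group
        _ = h * (zG * (x * zG * x⁻¹)) * h⁻¹ := by rw [comm_of_mem hh]; group
    rw [e2, conj_pow, hk]
    group
  rcases cases3 g with h | ⟨h, hh, h', hh', e⟩ | ⟨h, hh, h', hh', e⟩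
  · left
    rw [conj_of_mem h, zG_sq, one_pow]
  · right
    exact key _ 3 (pair_rel w1 3 (by decide +kernel)) h hh h' hh' e
  · left
    exact key _ 2 (pair_rel w2 2 (by decide +kernel)) h hh h' hh' e

theorem pair_D {d e : G} (hd : d ∈ D) (he : e ∈ D) : (d * e) ^ 2 = 1 ∨ (d * e) ^ 3 = 1 := by
  obtain ⟨c₁, rfl⟩ := mem_D.mp hd
  obtain ⟨c₂, rfl⟩ := mem_D.mp he
  have key : c₁ * zG * c₁⁻¹ * (c₂ * zG * c₂⁻¹) =
      c₁ * (zG * ((c₁⁻¹ * c₂) * zG * (c₁⁻¹ * c₂)⁻¹)) * c₁⁻¹ := by group
  rw [key, conj_pow, conj_pow]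
  rcases pair_zG (c₁⁻¹ * c₂) with h | h
  · left; rw [h]; group
  · right; rw [h]; group

theorem isClass : Cfsg.IsThreeTranspositionClass D :=
  ⟨⟨fun d hd => orderOf_D hd, fun d hd e he => pair_D hd he⟩,
    ⟨zG, mem_D.mpr ⟨1, by simp⟩, rfl⟩, closure_D⟩

/-! ### the centralisers -/

def conjEquiv (c : G) : Subgroup.centralizer {c * zG * c⁻¹} ≃* Hs where
  toFun x := ⟨c⁻¹ * x.1 * c, by
    rw [← cent_eq, Subgroup.mem_centralizer_iff]
    intro h hh
    rw [Set.mem_singleton_iff] at hh
    subst hh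
    have hx := Subgroup.mem_centralizer_iff.mp x.2 _ rfl
    calc zG * (c⁻¹ * x.1 * c) = c⁻¹ * ((c * zG * c⁻¹) * x.1) * c := by group
      _ = c⁻¹ * (x.1 * (c * zG * c⁻¹)) * c := by rw [hx]
      _ = c⁻¹ * x.1 * c * zG := by group⟩
  invFun y := ⟨c * y.1 * c⁻¹, by
    rw [Subgroup.mem_centralizer_iff]
    intro h hh
    rw [Set.mem_singleton_iff] at hh
    subst hh
    have hy := Subgroup.mem_centralizer_iff.mp (Hs_le_cent y.2) zG rfl
    calc c * zG * c⁻¹ * (c * y.1 * c⁻¹) = c * (zG * y.1) * c⁻¹ := by group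
      _ = c * (y.1 * zG) * c⁻¹ := by rw [hy]
      _ = c * y.1 * c⁻¹ * (c * zG * c⁻¹) := by group⟩
  left_inv x := Subtype.ext (by simp [mul_assoc])
  right_inv y := Subtype.ext (by simp [mul_assoc])
  map_mul' x y := Subtype.ext (by simp [mul_assoc])

theorem Hs_eq_HF : Hs = U62.HF := rfl

/-- the centraliser of a transposition is conjugate to the subgroup. -/
def conjEquivF (c : G) : Subgroup.centralizer {c * zG * c⁻¹} ≃* U62.HF :=
  (conjEquiv c).trans (MulEquiv.subgroupCongr Hs_eq_HF)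

/-- the centraliser of a transposition, onto `PSU₆(2)`. -/
def psiC (c : G) : Subgroup.centralizer {c * zG * c⁻¹} →* U62.PSU6 :=
  U62.psiH.comp (conjEquivF c).toMonoidHom

theorem cover_D {d : G} (hd : d ∈ D) :
    Cfsg.IsNonsplitDoubleCover (Subgroup.centralizer ({d} : Set G)) U62.PSU6 := by
  obtain ⟨c, rfl⟩ := mem_D.mp hd
  haveI : Finite G := Fi22Ord.finG
  have hs : Function.Surjective (psiC c) :=
    U62.psiH_surj.comp (conjEquivF c).surjective
  refine DoubleCover.nonsplit_of _ hs ?_ U62.center_PSU6 ?_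
  · apply DoubleCover.card_ker_two _ hs
    · rw [Nat.card_congr (conjEquivF c).toEquiv]
      exact U62.card_HF
    · rw [U62.card_PSU6]; norm_num
  · intro L hL
    apply U62.no_index_two_H (L.comap (conjEquivF c).symm.toMonoidHom)
    rw [Subgroup.index_comap_of_surjective _ (conjEquivF c).symm.surjective]
    exact hL

end Cfsg.Agent.Helper17.Fi22Trans
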